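import Groth.Agent.Lib.DeltaBC4.Algebra
import Groth.Agent.Lib.AlgMisc.GeomRedAt
import Groth.Agent.Lib.NormFib.Normal
import Groth.Agent.Lib.N2.FiniteType
import Groth.Agent.Lib.CharRing.Nagata
import Groth.Agent.Lib.N2.Scheme8
import Groth.Agent.S4710
import Groth.Prelude.Def_Curv2
import Mathlib

/-! Local rings of a base change, and residue fields of the normalization. -/

set_option autoImplicit false
set_option linter.style.haveILetI false
set_option backward.isDefEq.respectTransparency false
universe u

open CategoryTheory CategoryTheory.Limits AlgebraicGeometry TensorProduct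

namespace GrothLib.DeltaBC4

attribute [local instance] Curv2.stalkAlgebra

variable (k : Type u) [Field k] (X : Scheme.{u}) [X.Over (Spec (CommRingCat.of k))]

/-- Local rings of a scheme locally of finite type over a field are Nagata. -/
theorem isNagata_stalk [LocallyOfFiniteType (X ↘ Spec (CommRingCat.of k))] (x : X) :
    CAlg.IsNagata (X.presheaf.stalk x) := by
  obtain ⟨V, hV, hxV, -⟩ := exists_isAffineOpen_mem_and_subset (show x ∈ (⊤ : X.Opens) from trivial)
  obtain ⟨φ, hφ⟩ := Spec.map_surjective (hV.fromSpec ≫ (X ↘ Spec (CommRingCat.of k)))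
  letI : Algebra k Γ(X, V) := φ.hom.toAlgebra
  haveI : Algebra.FiniteType k Γ(X, V) := by
    have h1 : LocallyOfFiniteType (Spec.map φ) := hφ ▸ inferInstance
    exact HasRingHomProperty.Spec_iff.mp h1
  have hN : CAlg.IsNagata Γ(X, V) := GrothLib.N2.isNagata_of_finiteType (GrothLib.CharRing.isNagata_field (K := k)) _
  letI := TopCat.Presheaf.algebra_section_stalk X.presheaf (⟨x, hxV⟩ : V)
  haveI := hV.isLocalization_stalk ⟨x, hxV⟩
  let S := (hV.primeIdealOf ⟨x, hxV⟩).asIdeal.primeCompl
  exact GrothLib.N2.isNagata_of_ringEquiv'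
    (IsLocalization.algEquiv S (Localization S) (X.presheaf.stalk x)).toRingEquiv
    (Groth.Agent.S4710.result _ hN S)

/-- The local ring at a point of the base change is a localization of `O_x ⊗ K`. -/
theorem exists_stalk_bc (K : Type u) [Field K] [Algebra k K] (y : ↥(Curv2.bc k X K)) :
    ∃ (Q : Ideal (X.presheaf.stalk (Curv2.bcFst k X K y) ⊗[k] K)) (_ : Q.IsPrime)
      (_ : Algebra (X.presheaf.stalk (Curv2.bcFst k X K y) ⊗[k] K) ((Curv2.bc k X K).presheaf.stalk y)),
      IsLocalization.AtPrime ((Curv2.bc k X K).presheaf.stalk y) Q ∧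
      Q.comap (algebraMap (X.presheaf.stalk (Curv2.bcFst k X K y)) _) =
        IsLocalRing.maximalIdeal (X.presheaf.stalk (Curv2.bcFst k X K y)) := by
  obtain ⟨ι, hfst, hι, hι', hr⟩ :=
    Groth.Agent.Lib.AlgMisc.GeomRedAt.exists_local_chart k X (Curv2.bcFst k X K y) K
  obtain ⟨w, hw⟩ := hr y specializes_rfl
  let x := Curv2.bcFst k X K y
  let R := CommRingCat.of (X.presheaf.stalk x ⊗[k] K)
  let w' : Spec R := w
  have hbij : Function.Bijective (ι.stalkMap w).hom := by
    refine ⟨?_, ι.stalkMap_surjective w⟩
    algebraize [(ι.stalkMap w).hom]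
    haveI : Module.Flat _ _ := Flat.stalkMap ι w
    haveI : IsLocalHom (algebraMap ((Curv2.bc k X K).presheaf.stalk (ι w))
        ((Spec R).presheaf.stalk w')) :=
      inferInstanceAs (IsLocalHom (ι.stalkMap w).hom)
    haveI := Module.FaithfullyFlat.of_flat_of_isLocalHom
      (A := (Curv2.bc k X K).presheaf.stalk (ι w)) (B := (Spec R).presheaf.stalk w')
    exact FaithfulSMul.algebraMap_injective ((Curv2.bc k X K).presheaf.stalk (ι w))
        ((Spec R).presheaf.stalk w')
  let e : (Curv2.bc k X K).presheaf.stalk y ≃+* (Spec R).presheaf.stalk w' :=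
    ((Curv2.bc k X K).presheaf.stalkCongr (.of_eq hw.symm)).commRingCatIsoToRingEquiv.trans
      (RingEquiv.ofBijective _ hbij)
  letI : Algebra (X.presheaf.stalk x ⊗[k] K) ((Spec R).presheaf.stalk w') :=
    StructureSheaf.stalkAlgebra (R := R) w'
  haveI : IsLocalization w'.asIdeal.primeCompl ((Spec R).presheaf.stalk w') :=
    StructureSheaf.IsLocalization.to_stalk (R := R) w'
  letI alg : Algebra (X.presheaf.stalk x ⊗[k] K) ((Curv2.bc k X K).presheaf.stalk y) :=
    (e.symm.toRingHom.comp (algebraMap (X.presheaf.stalk x ⊗[k] K) ((Spec R).presheaf.stalk w'))).toAlgebra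
  refine ⟨w'.asIdeal, w'.isPrime, alg, ?_, ?_⟩
  · exact IsLocalization.isLocalization_of_algEquiv w'.asIdeal.primeCompl
      ({ e.symm with commutes' := fun _ => rfl } : (Spec R).presheaf.stalk w' ≃ₐ[X.presheaf.stalk x ⊗[k] K]
        (Curv2.bc k X K).presheaf.stalk y)
  · have h1 : X.fromSpecStalk x (Spec.map (CommRingCat.ofHom
        (algebraMap (X.presheaf.stalk x) (X.presheaf.stalk x ⊗[k] K))) w) =
        X.fromSpecStalk x (IsLocalRing.closedPoint (X.presheaf.stalk x)) := by
      rw [Scheme.fromSpecStalk_closedPoint]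
      show (Spec.map (CommRingCat.ofHom
        (algebraMap (X.presheaf.stalk x) (X.presheaf.stalk x ⊗[k] K))) ≫ X.fromSpecStalk x).base w = x
      rw [← hfst]
      exact congrArg (Curv2.bcFst k X K).base hw
    exact congrArg PrimeSpectrum.asIdeal ((X.fromSpecStalk x).isEmbedding.injective h1)

variable [IsIntegral X] [QuasiCompact (X.fromSpecStalk (genericPoint X))]
  [QuasiSeparated (X.fromSpecStalk (genericPoint X))]

/-- The residue fields of the normalization of the local ring are geometrically reduced when those of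
the normalization of the scheme over the point are. -/
theorem isReduced_normalization_residue_tensor (K : Type u) [Field K] [Algebra k K] (x : X)
    (hsep : letI : (Curv2.normalization X).Over (Spec (CommRingCat.of k)) :=
        ⟨Curv2.normalizationι X ≫ (X ↘ (Spec (CommRingCat.of k)))⟩
      ∀ x' : ↥(Curv2.normalization X), (Curv2.normalizationι X).base x' = x →
        GeometricallyReduced (Spec.map (CommRingCat.ofHom (Curv2.resMap k (Curv2.normalization X) x'))))
    (n₀ : Ideal (integralClosure (X.presheaf.stalk x) (FractionRing (X.presheaf.stalk x)))) [n₀.IsMaximal] :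
    _root_.IsReduced ((integralClosure (X.presheaf.stalk x) (FractionRing (X.presheaf.stalk x)) ⧸ n₀) ⊗[k] K) := by
  letI : (Curv2.normalization X).Over (Spec (CommRingCat.of k)) :=
    ⟨Curv2.normalizationι X ≫ (X ↘ (Spec (CommRingCat.of k)))⟩
  obtain ⟨U, hU, hxU, -⟩ := exists_isAffineOpen_mem_and_subset (show x ∈ (⊤ : X.Opens) from trivial)
  haveI : Nonempty U := ⟨⟨x, hxU⟩⟩
  letI := NormFib.chartAlgebra U
  obtain ⟨_, htow, hic⟩ := NormFib.exists_chart hU
  let C := Γ(Curv2.normalization X, NormFib.pre U)
  let O := X.presheaf.stalk x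
  let M := integralClosure O (FractionRing O)
  letI := TopCat.Presheaf.algebra_section_stalk X.presheaf (⟨x, hxU⟩ : U)
  haveI := hU.isLocalization_stalk ⟨x, hxU⟩
  haveI : IsScalarTower Γ(X, U) O X.functionField := functionField_isScalarTower X U ⟨x, hxU⟩
  let E : X.functionField ≃ₐ[O] FractionRing O := (FractionRing.algEquiv O X.functionField).symm
  let E' : X.functionField →ₐ[Γ(X, U)] FractionRing O :=
    { E.toRingEquiv.toRingHom with
      commutes' := fun r => by
        have h : algebraMap Γ(X, U) X.functionField r = algebraMap O X.functionField (algebraMap Γ(X, U) O r) :=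
          IsScalarTower.algebraMap_apply _ _ _ r
        show E (algebraMap Γ(X, U) X.functionField r) = _
        rw [h, AlgEquiv.commutes, ← IsScalarTower.algebraMap_apply] }
  let jF : C →ₐ[Γ(X, U)] FractionRing O := E'.comp (IsScalarTower.toAlgHom Γ(X, U) C X.functionField)
  haveI : Algebra.IsIntegral Γ(X, U) C := IsIntegralClosure.isIntegral_algebra Γ(X, U) X.functionField
  have hjF : ∀ c : C, jF c ∈ M := fun c => ((Algebra.IsIntegral.isIntegral (R := Γ(X, U)) c).map jF).tower_top
  let j : C →+* M := jF.toRingHom.codRestrict M.toSubring hjF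
  have hjA : ∀ a : Γ(X, U), j (algebraMap Γ(X, U) C a) = algebraMap O M (algebraMap Γ(X, U) O a) :=
    fun a => Subtype.ext ((jF.commutes a).trans (IsScalarTower.algebraMap_apply Γ(X, U) O (FractionRing O) a))
  let P : Ideal C := n₀.comap j
  haveI : P.IsPrime := Ideal.IsPrime.comap _
  have hc : n₀.comap (algebraMap O M) = IsLocalRing.maximalIdeal O := by
    haveI : Algebra.IsIntegral O M := inferInstance
    exact IsLocalRing.eq_maximalIdeal (Ideal.isMaximal_comap_of_isIntegral_of_isMaximal n₀)
  obtain ⟨z, hz, hzP⟩ := NormFib.exists_pt_of_prime hU ⟨P, inferInstance⟩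
  have hzx : Curv2.normalizationι X z = x := by
    have h1 := NormFib.comap_ptPrime hU z hz
    rw [hzP] at h1
    have h2 : P.comap ((Curv2.normalizationι X).app U).hom = (hU.primeIdealOf ⟨x, hxU⟩).asIdeal := by
      ext a
      have h3 := IsLocalization.AtPrime.to_map_mem_maximal_iff O (hU.primeIdealOf ⟨x, hxU⟩).asIdeal a
      rw [← h3, ← hc]
      show j (algebraMap Γ(X, U) C a) ∈ n₀ ↔ _
      rw [hjA]
      rfl
    rw [h2] at h1
    exact ((hU.fromSpec_primeIdealOf ⟨x, hxU⟩).symm.trans ((congrArg hU.fromSpec (PrimeSpectrum.ext h1)).trans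
      (hU.fromSpec_primeIdealOf _))).symm
  -- the residue fields
  letI : Algebra k C := (((Curv2.normalization X).presheaf.map (homOfLE (le_top : NormFib.pre U ≤ ⊤)).op).hom.comp
    (Coh.toGlobal ((Curv2.normalization X) ↘ Spec (CommRingCat.of k)))).toAlgebra
  have hjk : ∀ r : k, j (algebraMap k C r) = algebraMap k M r := by
    intro r
    have h1 : algebraMap k C r = algebraMap Γ(X, U) C
        ((X.presheaf.map (homOfLE (le_top : U ≤ ⊤)).op).hom (Coh.toGlobal (X ↘ Spec (CommRingCat.of k)) r)) := by
      show ((Curv2.normalization X).presheaf.map _).hom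
          (Coh.toGlobal (Curv2.normalizationι X ≫ (X ↘ Spec (CommRingCat.of k))) r) =
        (Curv2.normalizationι X).app U _
      simp only [Coh.toGlobal, Scheme.Hom.comp_appTop, CommRingCat.hom_comp, RingHom.comp_apply]
      exact (ConcreteCategory.congr_hom ((Curv2.normalizationι X).naturality (homOfLE (le_top : U ≤ ⊤)).op) _).symm
    rw [h1, hjA, IsScalarTower.algebraMap_apply k O M]
    congr 1
    exact X.presheaf.germ_res_apply _ _ _ _
  let jk : C →ₐ[k] M := { j with commutes' := hjk }
  let ev := (Curv2.normalization X).evaluation (NormFib.pre U) z hz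
  have hevker : RingHom.ker ev.hom = P := by
    rw [(NormFib.eval_properties (NormFib.isAffineOpen_pre hU) z hz).1]
    exact congrArg PrimeSpectrum.asIdeal hzP
  letI : Algebra k ((Curv2.normalization X).residueField z) :=
    (Curv2.resMap k (Curv2.normalization X) z).toAlgebra
  let evk : C →ₐ[k] (Curv2.normalization X).residueField z :=
    { ev.hom with
      commutes' := fun r => by
        show (Curv2.normalization X).residue z ((Curv2.normalization X).presheaf.germ _ z hz
          (((Curv2.normalization X).presheaf.map _).hom _)) = _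
        erw [(Curv2.normalization X).presheaf.germ_res_apply]
        rfl }
  haveI hgr := hsep z hzx
  haveI : _root_.IsReduced ((Curv2.normalization X).residueField z ⊗[k] K) := by
    haveI : IsReduced (pullback
        (Spec.map (CommRingCat.ofHom (algebraMap k ((Curv2.normalization X).residueField z))))
        (Spec.map (CommRingCat.ofHom (algebraMap k K)))) :=
      hgr.geometrically_isReduced _ _ _ (IsPullback.of_hasPullback _ _)
    haveI := isReduced_of_isOpenImmersion (pullbackSpecIso k ((Curv2.normalization X).residueField z) K).inv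
    exact (affine_isReduced_iff _).1 ‹_›
  -- compare with the residue field at `P`
  let g : P.ResidueField →ₐ[k] (Curv2.normalization X).residueField z :=
    Ideal.ResidueField.liftₐ P evk hevker.ge (fun c hc' =>
      (Ne.isUnit fun h => hc' (hevker.le h)))
  let fM : C →ₐ[k] (M ⧸ n₀) := (Ideal.Quotient.mkₐ k n₀).comp jk
  letI : Field (M ⧸ n₀) := Ideal.Quotient.field n₀
  let h : P.ResidueField →ₐ[k] (M ⧸ n₀) :=
    Ideal.ResidueField.liftₐ P fM (fun c hc' => Ideal.Quotient.eq_zero_iff_mem.2 hc')
      (fun c hc' => (Ne.isUnit fun h => hc' (show c ∈ P from (Ideal.Quotient.eq_zero_iff_mem (I := n₀) (a := j c)).1 h)))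
  have hhsurj : Function.Surjective h := by
    intro q
    obtain ⟨m, rfl⟩ := Ideal.Quotient.mk_surjective q
    have hint : IsIntegral O (E.symm m.1) := m.2.map E.symm
    obtain ⟨⟨s, hs⟩, hint'⟩ := IsIntegral.exists_multiple_integral_of_isLocalization
      (hU.primeIdealOf ⟨x, hxU⟩).asIdeal.primeCompl (Rₘ := O) (E.symm m.1) hint
    obtain ⟨b, hb⟩ := (IsIntegralClosure.isIntegral_iff (A := C)).1 hint'
    have hjb : j b = j (algebraMap Γ(X, U) C s) * m := by
      apply Subtype.ext
      show jF b = jF (algebraMap Γ(X, U) C s) * m.1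
      rw [jF.commutes]
      show E' (algebraMap C X.functionField b) = _
      rw [hb, Submonoid.smul_def, Algebra.smul_def, map_mul, AlgHom.commutes]
      congr 1
      exact E.apply_symm_apply m.1
    have hsP : algebraMap Γ(X, U) C s ∉ P := fun h => hs (by
      have h3 := IsLocalization.AtPrime.to_map_mem_maximal_iff O (hU.primeIdealOf ⟨x, hxU⟩).asIdeal s
      show s ∈ (hU.primeIdealOf ⟨x, hxU⟩).asIdeal
      rw [← h3, ← hc, Ideal.mem_comap, ← hjA]
      exact h)
    refine ⟨algebraMap C P.ResidueField b / algebraMap C P.ResidueField (algebraMap Γ(X, U) C s), ?_⟩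
    have hne : fM (algebraMap Γ(X, U) C s) ≠ 0 := fun h => hsP (show algebraMap Γ(X, U) C s ∈ P from (Ideal.Quotient.eq_zero_iff_mem (I := n₀) (a := j (algebraMap Γ(X, U) C s))).1 h)
    rw [map_div₀, Ideal.ResidueField.liftₐ_algebraMap, Ideal.ResidueField.liftₐ_algebraMap, div_eq_iff hne]
    show Ideal.Quotient.mk n₀ (j b) = Ideal.Quotient.mk n₀ m * Ideal.Quotient.mk n₀ (j (algebraMap Γ(X, U) C s))
    rw [hjb, map_mul, mul_comm]
  let hi : (M ⧸ n₀) →ₐ[k] P.ResidueField :=
    (AlgEquiv.ofBijective h ⟨h.toRingHom.injective, hhsurj⟩).symm.toAlgHom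
  let φ := g.comp hi
  exact isReduced_of_injective (Algebra.TensorProduct.map φ (AlgHom.id k K))
    (Module.Flat.rTensor_preserves_injective_linearMap (M := K) φ.toLinearMap φ.toRingHom.injective)

end GrothLib.DeltaBC4
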