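import Groth.Agent.Lib.DeltaFlat4.Main
import Mathlib

/-! The delta invariant under extensions of the base field. -/

set_option autoImplicit false
set_option linter.style.haveILetI false
set_option maxHeartbeats 1000000
universe u

open TensorProduct IsLocalRing

namespace GrothLib.DeltaBC4

/-- Reducedness passes from `F ⊗ R` to `F ⊗ L` for a localization `L` of `R`. -/
theorem isReduced_tensor_localization {κ F R L : Type u} [Field κ] [CommRing F] [Algebra κ F]
    [CommRing R] [Algebra κ R] [CommRing L] [Algebra κ L] [Algebra R L] [IsScalarTower κ R L]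
    (S : Submonoid R) [IsLocalization S L] [IsReduced (F ⊗[κ] R)] : IsReduced (F ⊗[κ] L) := by
  let G : F ⊗[κ] R →ₐ[κ] F ⊗[κ] L :=
    Algebra.TensorProduct.map (AlgHom.id κ F) (IsScalarTower.toAlgHom κ R L)
  have hsurj : ∀ z : F ⊗[κ] L, ∃ (s : S) (w : F ⊗[κ] R), z * G (1 ⊗ₜ s.1) = G w := by
    intro z
    induction z with
    | zero => exact ⟨1, 0, by simp⟩
    | tmul f l =>
      obtain ⟨⟨r, s⟩, h⟩ := IsLocalization.surj S l
      refine ⟨s, f ⊗ₜ r, ?_⟩
      show (f ⊗ₜ l) * ((1 : F) ⊗ₜ algebraMap R L s.1) = f ⊗ₜ algebraMap R L r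
      rw [Algebra.TensorProduct.tmul_mul_tmul, mul_one, h]
    | add a b ha hb =>
      obtain ⟨s, w, hw⟩ := ha
      obtain ⟨s', w', hw'⟩ := hb
      refine ⟨s * s', w * (1 ⊗ₜ s'.1) + w' * (1 ⊗ₜ s.1), ?_⟩
      rw [map_add, map_mul, map_mul, ← hw, ← hw', Submonoid.coe_mul,
        show ((1 : F) ⊗ₜ[κ] (s.1 * s'.1)) = (1 ⊗ₜ s.1) * (1 ⊗ₜ s'.1) by
          rw [Algebra.TensorProduct.tmul_mul_tmul, one_mul], map_mul]
      ring
  have hkill : ∀ w, G w = 0 → ∃ s : S, ((1 : F) ⊗ₜ[κ] s.1) * w = 0 := by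
    intro w hw
    let g : R →ₗ[κ] L := (IsScalarTower.toAlgHom κ R L).toLinearMap
    have hex : Function.Exact ((LinearMap.ker g).subtype.lTensor F) (g.lTensor F) :=
      Module.Flat.lTensor_exact F (LinearMap.exact_subtype_ker_map g)
    have hw' : g.lTensor F w = 0 := by
      rw [← hw]
      clear hw
      induction w with
      | zero => simp
      | tmul a b => rfl
      | add a b ha hb => rw [map_add, map_add, ha, hb]
    obtain ⟨v, rfl⟩ := (hex w).1 hw'
    clear hw hw'
    induction v with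
    | zero => exact ⟨1, by simp⟩
    | tmul f r =>
      obtain ⟨s, hs⟩ := (IsLocalization.map_eq_zero_iff S L r.1).1 (LinearMap.mem_ker.1 r.2)
      refine ⟨s, ?_⟩
      rw [LinearMap.lTensor_tmul, Algebra.TensorProduct.tmul_mul_tmul, Submodule.subtype_apply, hs, tmul_zero]
    | add a b ha hb =>
      obtain ⟨s, hs⟩ := ha
      obtain ⟨s', hs'⟩ := hb
      refine ⟨s * s', ?_⟩
      rw [Submonoid.coe_mul, show ((1 : F) ⊗ₜ[κ] (s.1 * s'.1)) = (1 ⊗ₜ s.1) * (1 ⊗ₜ s'.1) by
          rw [Algebra.TensorProduct.tmul_mul_tmul, one_mul], map_add]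
      linear_combination ((1 : F) ⊗ₜ[κ] s'.1) * hs + ((1 : F) ⊗ₜ[κ] s.1) * hs'
  refine ⟨fun z hz => ?_⟩
  obtain ⟨s, w, hw⟩ := hsurj z
  obtain ⟨n, hn⟩ := hz
  have h1 : G (w ^ n) = 0 := by rw [map_pow, ← hw, mul_pow, hn, zero_mul]
  obtain ⟨t, ht⟩ := hkill _ h1
  have h2 : ((1 : F) ⊗ₜ[κ] t.1) * w = 0 := IsReduced.eq_zero _ ⟨n + 1, by
    rw [mul_pow, pow_succ, pow_succ]
    linear_combination (((1 : F) ⊗ₜ[κ] t.1) ^ n * w) * ht⟩
  have h3 := congrArg G h2
  rw [map_mul, ← hw, map_zero] at h3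
  have hu : ∀ u : S, IsUnit (G ((1 : F) ⊗ₜ[κ] u.1)) := fun u =>
    (IsLocalization.map_units L u).map (Algebra.TensorProduct.includeRight : L →ₐ[κ] F ⊗[κ] L)
  exact (hu s).mul_left_eq_zero.1 ((hu t).mul_right_eq_zero.1 h3)

variable (k K : Type u) [Field k] [Field K] [Algebra k K] (A B : Type u) [CommRing A] [IsLocalRing A]
  [IsReduced A] [IsNoetherianRing A] [Algebra k A] [CommRing B] [IsLocalRing B] [IsNoetherianRing B]
  [Algebra (A ⊗[k] K) B] [Algebra A B] [IsScalarTower A (A ⊗[k] K) B]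
  (Q : Ideal (A ⊗[k] K)) [Q.IsPrime] [IsLocalization.AtPrime B Q]

local notation "MA" => integralClosure A (FractionRing A)

theorem deltaInv_eq (hQ : Q.comap (algebraMap A (A ⊗[k] K)) = maximalIdeal A)
    (hdimA : ringKrullDim A = 1) (hdimB : ringKrullDim B ≤ 1) (hN : Module.Finite A MA)
    (hnorm : ∀ p : PrimeSpectrum MA,
      IsDomain (Localization.AtPrime p.asIdeal) ∧ IsIntegrallyClosed (Localization.AtPrime p.asIdeal))
    (hred : ∀ (n₀ : Ideal MA) [n₀.IsMaximal], IsReduced ((MA ⧸ n₀) ⊗[k] K)) :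
    Curv2.deltaInv B = Curv2.deltaInv A := by
  classical
  haveI := hN
  haveI : IsLocalHom (algebraMap A B) := by
    refine ⟨fun a ha => by_contra fun hna => ?_⟩
    have h1 : algebraMap A (A ⊗[k] K) a ∈ Q := (SetLike.ext_iff.1 hQ a).2 hna
    rw [IsScalarTower.algebraMap_apply A (A ⊗[k] K) B, IsLocalization.AtPrime.isUnit_to_map_iff B Q] at ha
    exact ha h1
  haveI : Module.Flat (A ⊗[k] K) B := IsLocalization.flat B Q.primeCompl
  haveI : Module.Flat A B := Module.Flat.trans A (A ⊗[k] K) B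
  -- the closed fibre of the tensor product is reduced
  let κ := ResidueField A
  haveI hredκ : IsReduced (κ ⊗[k] K) := by
    haveI : Nontrivial MA := Function.Injective.nontrivial (f := algebraMap A MA)
      fun a b h => IsFractionRing.injective A (FractionRing A) (congrArg Subtype.val h)
    obtain ⟨n₀, hn₀⟩ := Ideal.exists_maximal MA
    haveI := hn₀
    haveI : Algebra.IsIntegral A MA := Algebra.IsIntegral.of_finite A MA
    have hc : n₀.comap (algebraMap A MA) = maximalIdeal A :=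
      IsLocalRing.eq_maximalIdeal (Ideal.isMaximal_comap_of_isIntegral_of_isMaximal n₀)
    letI : Field (MA ⧸ n₀) := Ideal.Quotient.field n₀
    let f : κ →ₐ[k] MA ⧸ n₀ := Ideal.Quotient.liftₐ (maximalIdeal A)
      (IsScalarTower.toAlgHom k A (MA ⧸ n₀))
      (fun a ha => Ideal.Quotient.eq_zero_iff_mem.2 ((SetLike.ext_iff.1 hc a).2 ha))
    haveI := hred n₀
    exact isReduced_of_injective (Algebra.TensorProduct.map f (AlgHom.id k K))
      (Module.Flat.rTensor_preserves_injective_linearMap (M := K) f.toLinearMap f.toRingHom.injective)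
  let π : A ⊗[k] K →ₐ[k] κ ⊗[k] K :=
    Algebra.TensorProduct.map (Ideal.Quotient.mkₐ k (maximalIdeal A)) (AlgHom.id k K)
  have hker : RingHom.ker π = (maximalIdeal A).map (algebraMap A (A ⊗[k] K)) := by
    have := Algebra.TensorProduct.rTensor_ker (R := k) (C := K) (Ideal.Quotient.mkₐ k (maximalIdeal A))
      Ideal.Quotient.mk_surjective
    rw [show RingHom.ker π = RingHom.ker (Algebra.TensorProduct.map (Ideal.Quotient.mkₐ k (maximalIdeal A))
      (AlgHom.id k K)) from rfl, this, show RingHom.ker (Ideal.Quotient.mkₐ k (maximalIdeal A)) = maximalIdeal A from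
      Ideal.Quotient.mkₐ_ker k _]
    rfl
  have hrad : ((maximalIdeal A).map (algebraMap A (A ⊗[k] K))).IsRadical := by
    rw [← hker]
    intro x hx
    obtain ⟨n, hn⟩ := hx
    exact IsReduced.eq_zero (π x) ⟨n, by rw [← map_pow]; exact hn⟩
  have hm : (maximalIdeal A).map (algebraMap A B) = maximalIdeal B := by
    have hradB : ((maximalIdeal A).map (algebraMap A B)).IsRadical := by
      rw [IsScalarTower.algebraMap_eq A (A ⊗[k] K) B, ← Ideal.map_map]
      intro x hx
      obtain ⟨n, hn⟩ := hx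
      obtain ⟨⟨a, s⟩, has⟩ := IsLocalization.surj Q.primeCompl x
      have h1 : algebraMap (A ⊗[k] K) B (a ^ n) ∈
          ((maximalIdeal A).map (algebraMap A (A ⊗[k] K))).map (algebraMap (A ⊗[k] K) B) := by
        rw [map_pow, ← has, mul_pow]
        exact Ideal.mul_mem_right _ _ hn
      obtain ⟨t, ht, hta⟩ := (IsLocalization.algebraMap_mem_map_algebraMap_iff Q.primeCompl B _ _).1 h1
      have h2 : t * a ∈ (maximalIdeal A).map (algebraMap A (A ⊗[k] K)) := hrad ⟨n + 1, by
        rw [show (t * a) ^ (n + 1) = (t ^ n * a) * (t * a ^ n) by ring]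
        exact Ideal.mul_mem_left _ _ hta⟩
      have h3 := Ideal.mem_map_of_mem (algebraMap (A ⊗[k] K) B) h2
      rw [map_mul, ← has] at h3
      exact (Ideal.unit_mul_mem_iff_mem _ (IsLocalization.map_units B s)).1 (by
        rw [mul_comm]
        exact (Ideal.unit_mul_mem_iff_mem _ (IsLocalization.map_units B (⟨t, ht⟩ : Q.primeCompl))).1 h3)
    refine le_antisymm (((local_hom_TFAE (algebraMap A B)).out 0 2 rfl rfl).1 inferInstance) ?_
    rw [← hradB.radical, Ideal.radical_eq_sInf]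
    refine le_sInf fun P ⟨hP, hPp⟩ => ?_
    haveI := hPp
    by_contra hne
    have hlt : P < maximalIdeal B :=
      lt_of_le_of_ne (le_maximalIdeal hPp.ne_top) fun h => hne h.ge
    haveI : P.LiesOver (maximalIdeal A) := ⟨(le_antisymm (le_maximalIdeal (Ideal.IsPrime.comap _).ne_top)
      (Ideal.map_le_iff_le_comap.1 hP)).symm⟩
    obtain ⟨p, hp, hpm⟩ : ∃ p : Ideal A, p.IsPrime ∧ p < maximalIdeal A := by
      obtain ⟨p, hp, hle⟩ := Ideal.exists_minimalPrimes_le (bot_le : (⊥ : Ideal A) ≤ maximalIdeal A)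
      refine ⟨p, hp.1.1, lt_of_le_of_ne hle fun h => ?_⟩
      have h0 : (maximalIdeal A).height = 0 := Ideal.height_eq_zero_iff.2 (h ▸ hp)
      rw [← IsLocalRing.maximalIdeal_height_eq_ringKrullDim, h0] at hdimA
      exact absurd hdimA (by norm_num)
    haveI := hp
    obtain ⟨P', hP'le, hP', hP'o⟩ := Ideal.exists_ideal_le_liesOver_of_le P hpm.le
    have hlt' : P' < P := lt_of_le_of_ne hP'le fun h => hpm.ne (by
      rw [hP'o.over, h, (inferInstance : P.LiesOver (maximalIdeal A)).over])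
    haveI := hP'
    have h1 := Ideal.height_strict_mono_of_isPrime_of_isPrime hlt'
    have h2 : P.height < 1 := (Ideal.height_strict_mono_of_isPrime_of_isPrime hlt).trans_le (by
      have := (IsLocalRing.maximalIdeal_height_eq_ringKrullDim (R := B)).le.trans hdimB
      exact_mod_cast this)
    rw [ENat.lt_one_iff_eq_zero.1 h2] at h1
    exact not_lt_zero h1
  refine DeltaFlat4.deltaInv_eq_of_isReduced A B hdimA hN hnorm hm fun n₀ _ _ _ => ?_
  -- the residue field of `B` is a localization of `κ ⊗ K`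
  letI : Algebra k (ResidueField B) := ((algebraMap κ (ResidueField B)).comp (algebraMap k κ)).toAlgebra
  haveI : IsScalarTower k κ (ResidueField B) := IsScalarTower.of_algebraMap_eq' rfl
  let gK : K →ₐ[k] ResidueField B :=
    { __ := (residue B).comp ((algebraMap (A ⊗[k] K) B).comp
        (Algebra.TensorProduct.includeRight : K →ₐ[k] A ⊗[k] K).toRingHom)
      commutes' := fun r => by
        show residue B (algebraMap (A ⊗[k] K) B ((1 : A) ⊗ₜ[k] algebraMap k K r)) =
          residue B (algebraMap A B (algebraMap k A r))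
        rw [← Algebra.TensorProduct.tmul_one_eq_one_tmul, IsScalarTower.algebraMap_apply A (A ⊗[k] K) B]
        rfl }
  let g : κ ⊗[k] K →ₐ[κ] ResidueField B :=
    Algebra.TensorProduct.lift (Algebra.ofId κ (ResidueField B)) gK fun _ _ => Commute.all _ _
  have hg : ∀ x : A ⊗[k] K, g (π x) = residue B (algebraMap (A ⊗[k] K) B x) := fun x => by
    induction x with
    | zero => simp
    | tmul a c =>
      rw [show π (a ⊗ₜ c) = residue A a ⊗ₜ c from rfl, Algebra.TensorProduct.lift_tmul]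
      show residue B (algebraMap A B a) * residue B (algebraMap (A ⊗[k] K) B ((1 : A) ⊗ₜ c)) = _
      rw [← map_mul, IsScalarTower.algebraMap_apply A (A ⊗[k] K) B, ← map_mul,
        Algebra.TensorProduct.algebraMap_apply, Algebra.TensorProduct.tmul_mul_tmul, mul_one, one_mul]
      rfl
    | add a b ha hb => simp only [map_add, ha, hb]
  letI : Algebra (κ ⊗[k] K) (ResidueField B) := g.toRingHom.toAlgebra
  haveI : IsScalarTower κ (κ ⊗[k] K) (ResidueField B) :=
    IsScalarTower.of_algebraMap_eq fun c => (g.commutes c).symm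
  let Sm : Submonoid (κ ⊗[k] K) := Q.primeCompl.map π
  have hπ : Function.Surjective π := fun y => by
    induction y with
    | zero => exact ⟨0, map_zero _⟩
    | tmul a c =>
      obtain ⟨a, rfl⟩ := residue_surjective a
      exact ⟨a ⊗ₜ c, rfl⟩
    | add a b ha hb =>
      obtain ⟨x, rfl⟩ := ha
      obtain ⟨y, rfl⟩ := hb
      exact ⟨x + y, map_add _ _ _⟩
  haveI : IsLocalization Sm (ResidueField B) := by
    refine (isLocalization_iff Sm _).2 ⟨?_, fun z => ?_, fun {x y} h => ?_⟩
    · rintro ⟨_, s, hs, rfl⟩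
      show IsUnit (g (π s))
      rw [hg]
      exact ((IsLocalization.map_units B (⟨s, hs⟩ : Q.primeCompl))).map (residue B)
    · obtain ⟨b, rfl⟩ := residue_surjective z
      obtain ⟨⟨a, s⟩, has⟩ := IsLocalization.surj Q.primeCompl b
      refine ⟨⟨π a, ⟨π s.1, s.1, s.2, rfl⟩⟩, ?_⟩
      show residue B b * g (π s.1) = g (π a)
      rw [hg, hg, ← map_mul, has]
    · obtain ⟨x, rfl⟩ := hπ x
      obtain ⟨y, rfl⟩ := hπ y
      change g (π x) = g (π y) at h
      rw [hg, hg, ← sub_eq_zero, ← map_sub, ← map_sub, residue_eq_zero_iff, ← hm,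
        IsScalarTower.algebraMap_eq A (A ⊗[k] K) B, ← Ideal.map_map] at h
      obtain ⟨t, ht, hta⟩ := (IsLocalization.algebraMap_mem_map_algebraMap_iff Q.primeCompl B _ _).1 h
      refine ⟨⟨π t, t, ht, rfl⟩, ?_⟩
      rw [← hker, RingHom.mem_ker, map_mul, map_sub, mul_sub, sub_eq_zero] at hta
      exact hta
  letI : Algebra k (MA ⧸ n₀) := inferInstance
  haveI : IsScalarTower k κ (MA ⧸ n₀) := IsScalarTower.of_algebraMap_eq fun r => by
    show _ = algebraMap κ (MA ⧸ n₀) (algebraMap A κ (algebraMap k A r))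
    rw [← IsScalarTower.algebraMap_apply A κ, ← IsScalarTower.algebraMap_apply k A]
  haveI := hred n₀
  haveI : IsReduced ((MA ⧸ n₀) ⊗[κ] (κ ⊗[k] K)) :=
    isReduced_of_injective (Algebra.TensorProduct.cancelBaseChange k κ κ (MA ⧸ n₀) K)
      (Algebra.TensorProduct.cancelBaseChange k κ κ (MA ⧸ n₀) K).injective
  exact isReduced_tensor_localization (κ := κ) (F := MA ⧸ n₀) (R := κ ⊗[k] K) (L := ResidueField B) Sm

end GrothLib.DeltaBC4
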