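import Groth.Agent.Lib.DeltaBC4.Scheme
import Groth.Agent.Lib.NormFib.Birational
import Groth.Agent.Lib.NormFib.Cokernel
import Groth.Agent.Lib.SepField.Smooth
import Groth.Agent.Lib.GeomReg.FG
import Groth.Agent.Lib.RegLoc.Basic
import Groth.Agent.Lib.Japanese.Curve
import Mathlib

/-! Geometric regularity of the normalization in codimension one. -/

set_option autoImplicit false
set_option linter.style.haveILetI false
set_option backward.isDefEq.respectTransparency false
universe u

open CategoryTheory CategoryTheory.Limits AlgebraicGeometry TensorProduct IsLocalRing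

namespace GrothLib.DeltaBC4

/-- A DVR with geometrically reduced residue field has reduced base changes. -/
theorem isReduced_tensor_of_dvr (k K : Type u) [Field k] [Field K] [Algebra k K] (O : Type u) [CommRing O]
    [IsDomain O] [IsDiscreteValuationRing O] [Algebra k O]
    [_root_.IsReduced (ResidueField O ⊗[k] K)] : _root_.IsReduced (O ⊗[k] K) := by
  classical
  obtain ⟨π, hπ⟩ := IsDiscreteValuationRing.exists_irreducible O
  let e := Module.Free.chooseBasis k K
  let E := e.baseChange O
  let g : O ⊗[k] K →ₐ[k] ResidueField O ⊗[k] K :=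
    Algebra.TensorProduct.map (IsScalarTower.toAlgHom k O (ResidueField O)) (AlgHom.id k K)
  have hgE : ∀ (z : O ⊗[k] K) i, (e.baseChange (ResidueField O)).repr (g z) i = residue O (E.repr z i) := by
    intro z i
    induction z with
    | zero => simp
    | tmul a c =>
      rw [show g (a ⊗ₜ c) = residue O a ⊗ₜ c from rfl, Module.Basis.baseChange_repr_tmul,
        Module.Basis.baseChange_repr_tmul, Algebra.smul_def, Algebra.smul_def, map_mul]
      congr 1
    | add a b ha hb => simp only [map_add, Finsupp.add_apply, ha, hb]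
  have hdiv : ∀ z : O ⊗[k] K, IsNilpotent z → ∃ w, IsNilpotent w ∧ z = π • w := by
    intro z hz
    have h0 : g z = 0 := (hz.map g).eq_zero
    have hdv : ∀ i, ∃ b, E.repr z i = π * b := fun i => by
      have h1 : residue O (E.repr z i) = 0 := by rw [← hgE, h0, map_zero, Finsupp.zero_apply]
      rw [residue_eq_zero_iff, hπ.maximalIdeal_eq, Ideal.mem_span_singleton'] at h1
      obtain ⟨b, hb⟩ := h1
      exact ⟨b, by rw [← hb, mul_comm]⟩
    choose b hb using hdv
    let w : O ⊗[k] K := ∑ i ∈ (E.repr z).support, b i • E i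
    have hzw : z = π • w := by
      conv_lhs => rw [← E.linearCombination_repr z, Finsupp.linearCombination_apply, Finsupp.sum]
      rw [Finset.smul_sum]
      exact Finset.sum_congr rfl fun i _ => by rw [smul_smul, ← hb]
    refine ⟨w, ?_, hzw⟩
    obtain ⟨n, hn⟩ := hz
    refine ⟨n, ?_⟩
    rw [hzw, smul_pow] at hn
    apply E.repr.injective
    ext i
    have h2 := DFunLike.congr_fun (congrArg E.repr hn) i
    rw [map_smul, map_zero, Finsupp.smul_apply, Finsupp.zero_apply, smul_eq_mul] at h2
    rw [map_zero, Finsupp.zero_apply]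
    exact (mul_eq_zero.1 h2).resolve_left (pow_ne_zero _ hπ.ne_zero)
  refine ⟨fun z hz => ?_⟩
  apply E.repr.injective
  ext i
  rw [map_zero, Finsupp.zero_apply]
  have hn : ∀ n : ℕ, ∀ z : O ⊗[k] K, IsNilpotent z → E.repr z i ∈ maximalIdeal O ^ n := by
    intro n
    induction n with
    | zero => intro z _; rw [pow_zero, Ideal.one_eq_top]; trivial
    | succ n ih =>
      intro z hz
      obtain ⟨w, hw, rfl⟩ := hdiv z hz
      rw [map_smul, Finsupp.smul_apply, smul_eq_mul, pow_succ']
      exact Ideal.mul_mem_mul (hπ.maximalIdeal_eq ▸ Ideal.mem_span_singleton_self π) (ih w hw)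
  have : E.repr z i ∈ ⨅ n : ℕ, maximalIdeal O ^ n := Submodule.mem_iInf _ |>.2 fun n => hn n z hz
  rwa [Ideal.iInf_pow_eq_bot_of_isLocalRing _ (maximalIdeal.isMaximal O).ne_top, Ideal.mem_bot] at this

/-- Localizations of `O ⊗ K` over the closed point of a DVR with separable residue field are regular. -/
theorem isRegularLocalRing_tensor_of_dvr (k K : Type u) [Field k] [Field K] [Algebra k K]
    [Algebra.EssFiniteType k K] (O : Type u) [CommRing O] [IsDomain O] [IsDiscreteValuationRing O]
    [Algebra k O] [Algebra.EssFiniteType k (ResidueField O)]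
    [Algebra.IsGeometricallyReduced k (ResidueField O)]
    (Q : Ideal (O ⊗[k] K)) [Q.IsPrime] (hQ : Q.comap (algebraMap O (O ⊗[k] K)) = maximalIdeal O)
    (B : Type u) [CommRing B] [IsLocalRing B] [IsNoetherianRing B] [Algebra (O ⊗[k] K) B]
    [IsLocalization.AtPrime B Q] : IsRegularLocalRing B := by
  haveI : Algebra.FormallySmooth k (ResidueField O) :=
    SepField.formallySmooth_iff_isGeometricallyReduced.2 inferInstance
  haveI : IsRegularRing (ResidueField O ⊗[k] K) := GeomReg.isRegularRing_tensor_of_formallySmooth k _ K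
  obtain ⟨π, hπ⟩ := IsDiscreteValuationRing.exists_irreducible O
  let R := O ⊗[k] K
  let x : R := algebraMap O R π
  let g : R →ₐ[k] ResidueField O ⊗[k] K :=
    Algebra.TensorProduct.map (IsScalarTower.toAlgHom k O (ResidueField O)) (AlgHom.id k K)
  have hgs : Function.Surjective g := fun y => by
    induction y with
    | zero => exact ⟨0, map_zero _⟩
    | tmul a c =>
      obtain ⟨a, rfl⟩ := residue_surjective a
      exact ⟨a ⊗ₜ c, rfl⟩
    | add a b ha hb =>
      obtain ⟨x, rfl⟩ := ha
      obtain ⟨y, rfl⟩ := hb
      exact ⟨x + y, map_add _ _ _⟩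
  have hker : RingHom.ker g = Ideal.span {x} := by
    have := Algebra.TensorProduct.rTensor_ker (R := k) (C := K)
      (IsScalarTower.toAlgHom k O (ResidueField O)) residue_surjective
    rw [show RingHom.ker g = RingHom.ker (Algebra.TensorProduct.map
      (IsScalarTower.toAlgHom k O (ResidueField O)) (AlgHom.id k K)) from rfl, this,
      show RingHom.ker (IsScalarTower.toAlgHom k O (ResidueField O)) = maximalIdeal O from ker_residue,
      hπ.maximalIdeal_eq, Ideal.map_span, Set.image_singleton]
    rfl
  let xB : B := algebraMap R B x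
  have hxm : xB ∈ maximalIdeal B :=
    (IsLocalization.AtPrime.to_map_mem_maximal_iff B Q x).2
      ((SetLike.ext_iff.1 hQ π).2 (hπ.maximalIdeal_eq ▸ Ideal.mem_span_singleton_self π))
  have hxreg : xB ∈ nonZeroDivisors B := by
    refine mem_nonZeroDivisors_iff_right.2 fun b hb => ?_
    obtain ⟨r, s, rfl⟩ := IsLocalization.exists_mk'_eq Q.primeCompl b
    have h1 : algebraMap R B (r * x) = algebraMap R B 0 := by
      rw [map_zero, map_mul, ← IsLocalization.mk'_spec B r s, mul_right_comm, hb, zero_mul]
    obtain ⟨c, hc⟩ := (IsLocalization.eq_iff_exists Q.primeCompl B).1 h1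
    rw [mul_zero, ← mul_assoc] at hc
    haveI : Module.Flat O R := inferInstance
    have hinj : Function.Injective (fun y : R => π • y) :=
      (Module.Flat.isSMulRegular_of_nonZeroDivisors (M := R) (mem_nonZeroDivisors_of_ne_zero hπ.ne_zero))
    have h2 : (c.1 * r : R) = 0 := hinj (by
      simp only [smul_zero, Algebra.smul_def, mul_zero]
      rw [mul_comm]
      exact hc)
    exact (IsLocalization.mk'_eq_zero_iff r s).2 ⟨c, h2⟩
  haveI : IsNoetherianRing (B ⧸ Ideal.span {xB}) := inferInstance
  -- the quotient is a localization of the regular ring `κ ⊗ K`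
  let h : ResidueField O ⊗[k] K →+* B ⧸ Ideal.span {xB} :=
    (Ideal.Quotient.lift (Ideal.span {x}) ((Ideal.Quotient.mk (Ideal.span {xB})).comp (algebraMap R B))
      (fun a ha => by
        obtain ⟨c, rfl⟩ := Ideal.mem_span_singleton'.1 ha
        rw [RingHom.comp_apply, map_mul]
        exact Ideal.Quotient.eq_zero_iff_mem.2 (Ideal.mul_mem_left _ _ (Ideal.mem_span_singleton_self _)))).comp
      ((Ideal.quotEquivOfEq hker).toRingHom.comp
        (RingHom.quotientKerEquivOfSurjective (f := g.toRingHom) hgs).symm.toRingHom)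
  have hh : ∀ r : R, h (g r) = Ideal.Quotient.mk _ (algebraMap R B r) := fun r => by
    simp only [h, RingHom.comp_apply]
    have e : (RingHom.quotientKerEquivOfSurjective (f := g.toRingHom) hgs).symm.toRingHom (g r) =
        Ideal.Quotient.mk (RingHom.ker g.toRingHom) r := (RingEquiv.symm_apply_eq _).2 rfl
    exact Eq.trans (congrArg _ (congrArg _ e)) rfl
  letI : Algebra (ResidueField O ⊗[k] K) (B ⧸ Ideal.span {xB}) := h.toAlgebra
  let Sm : Submonoid (ResidueField O ⊗[k] K) := Q.primeCompl.map g
  haveI : IsLocalization Sm (B ⧸ Ideal.span {xB}) := by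
    refine (isLocalization_iff Sm _).2 ⟨?_, fun z => ?_, fun {a b} hab => ?_⟩
    · rintro ⟨_, s, hs, rfl⟩
      show IsUnit (h (g s))
      rw [hh]
      exact (IsLocalization.map_units B (⟨s, hs⟩ : Q.primeCompl)).map _
    · obtain ⟨b, rfl⟩ := Ideal.Quotient.mk_surjective z
      obtain ⟨⟨a, s⟩, has⟩ := IsLocalization.surj Q.primeCompl b
      refine ⟨⟨g a, ⟨g s.1, s.1, s.2, rfl⟩⟩, ?_⟩
      show Ideal.Quotient.mk _ b * h (g s.1) = h (g a)
      rw [hh, hh, ← map_mul, has]
    · obtain ⟨a, rfl⟩ := hgs a
      obtain ⟨b, rfl⟩ := hgs b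
      change h (g a) = h (g b) at hab
      rw [hh, hh, Ideal.Quotient.eq, ← map_sub, show Ideal.span {xB} = (Ideal.span {x}).map (algebraMap R B) by
        rw [Ideal.map_span, Set.image_singleton]] at hab
      obtain ⟨t, ht, hta⟩ := (IsLocalization.algebraMap_mem_map_algebraMap_iff Q.primeCompl B _ _).1 hab
      refine ⟨⟨g t, t, ht, rfl⟩, ?_⟩
      rw [← hker, RingHom.mem_ker, map_mul, map_sub, mul_sub, sub_eq_zero] at hta
      exact hta
  haveI : IsRegularRing (B ⧸ Ideal.span {xB}) := GeomReg.isRegularRing_of_isLocalization Sm _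
  haveI : IsLocalRing (B ⧸ Ideal.span {xB}) := by
    haveI : Nontrivial (B ⧸ Ideal.span {xB}) := Ideal.Quotient.nontrivial_iff.2
      ((lt_of_le_of_lt ((Ideal.span_singleton_le_iff_mem _).2 hxm) (maximalIdeal.isMaximal B).ne_top.lt_top).ne)
    exact IsLocalRing.of_surjective' (Ideal.Quotient.mk (Ideal.span {xB})) Ideal.Quotient.mk_surjective
  haveI : IsRegularLocalRing (B ⧸ Ideal.span {xB}) :=
    IsRegularLocalRing.of_isRegularRing_of_isLocalRing _
  exact RegLoc.isRegularLocalRing_of_quotient hxm hxreg

attribute [local instance] Curv2.stalkAlgebra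

variable (k : Type u) [Field k] (X : Scheme.{u}) [X.Over (Spec (CommRingCat.of k))] [IsIntegral X]
  [QuasiCompact (X.fromSpecStalk (genericPoint X))] [QuasiSeparated (X.fromSpecStalk (genericPoint X))]
  [LocallyOfFiniteType (X ↘ Spec (CommRingCat.of k))]

include k in
theorem isFinite_normalizationι : IsFinite (Curv2.normalizationι X) := by
  refine NormFib.isFinite_of_nagata fun U => ?_
  obtain ⟨φ, hφ⟩ := Spec.map_surjective (U.2.fromSpec ≫ (X ↘ Spec (CommRingCat.of k)))
  letI : Algebra k Γ(X, U.1) := φ.hom.toAlgebra
  haveI : Algebra.FiniteType k Γ(X, U.1) := by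
    have h1 : LocallyOfFiniteType (Spec.map φ) := hφ ▸ inferInstance
    exact HasRingHomProperty.Spec_iff.mp h1
  exact GrothLib.N2.isNagata_of_finiteType (GrothLib.CharRing.isNagata_field (K := k)) _

include k in
theorem isNoetherianRing_stalk_normalization (x' : ↥(Curv2.normalization X)) :
    IsNoetherianRing ((Curv2.normalization X).presheaf.stalk x') := by
  haveI := isFinite_normalizationι k X
  haveI : IsLocallyNoetherian (Curv2.normalization X) :=
    LocallyOfFiniteType.isLocallyNoetherian (Curv2.normalizationι X ≫ (X ↘ Spec (CommRingCat.of k)))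
  infer_instance

include k in
/-- The local rings of the normalization over a codimension one point are DVRs. -/
theorem isDVR_stalk_normalization (x' : ↥(Curv2.normalization X))
    (hdim : ringKrullDim (X.presheaf.stalk (Curv2.normalizationι X x')) = 1) :
    IsDiscreteValuationRing ((Curv2.normalization X).presheaf.stalk x') := by
  haveI := isFinite_normalizationι k X
  haveI := isNoetherianRing_stalk_normalization k X x'
  let O' := (Curv2.normalization X).presheaf.stalk x'
  obtain ⟨hdom, hic⟩ := NormFib.isNormalScheme_normalization x'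
  haveI := hdom
  haveI := hic
  have h1 := Japanese.Scheme.Hom.coheight_le_of_locallyQuasiFinite (Curv2.normalizationι X) x'
  rw [ringKrullDim_stalk_eq_coheight] at hdim
  have hx1 : Order.coheight (Curv2.normalizationι X x') = 1 := by exact_mod_cast hdim
  rw [hx1] at h1
  haveI : Ring.KrullDimLE 1 O' := Ring.krullDimLE_iff.2 (by
    rw [ringKrullDim_stalk_eq_coheight]; exact_mod_cast h1)
  haveI : Ring.DimensionLEOne O' := ⟨fun {P} hP0 hP => by
    rcases Ring.krullDimLE_one_iff.1 ‹_› P hP with h | h
    · rw [IsDomain.minimalPrimes_eq_singleton_bot] at h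
      exact absurd h hP0
    · exact h⟩
  haveI : IsDedekindDomain O' := {}
  have hnf : ¬ IsField O' := fun h => by
    have h0 : Order.coheight x' = 0 := by
      have := ringKrullDim_eq_zero_of_isField h
      rw [ringKrullDim_stalk_eq_coheight] at this
      exact_mod_cast this
    have hgen : genericPoint (Curv2.normalization X) = x' := by
      rw [Order.coheight_eq_zero] at h0
      have hle : x' ≤ genericPoint (Curv2.normalization X) :=
        (genericPoint_spec (Curv2.normalization X)).specializes trivial
      exact (Specializes.antisymm ((genericPoint_spec (Curv2.normalization X)).specializes trivial) (h0 hle)).eq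
    have hx : Curv2.normalizationι X x' = genericPoint X := hgen ▸ NormFib.map_genericPoint
    have h3 : Order.coheight (Curv2.normalizationι X x') = 0 := by
      rw [Order.coheight_eq_zero, hx]
      intro y _
      exact (genericPoint_spec X).specializes trivial
    rw [hx1] at h3
    exact one_ne_zero h3
  exact ((IsDiscreteValuationRing.TFAE O' hnf).out 0 2 : IsDiscreteValuationRing O' ↔ IsDedekindDomain O').2
    inferInstance

end GrothLib.DeltaBC4

namespace GrothLib.DeltaBC4

attribute [local instance] Curv2.stalkAlgebra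

/-- Local rings of schemes locally of finite type over a field are essentially of finite type. -/
theorem essFiniteType_stalk (k : Type u) [Field k] (X : Scheme.{u}) [X.Over (Spec (CommRingCat.of k))]
    [LocallyOfFiniteType (X ↘ Spec (CommRingCat.of k))] (x : X) :
    Algebra.EssFiniteType k (X.presheaf.stalk x) := by
  let p := X ↘ Spec (CommRingCat.of k)
  let R := CommRingCat.of k
  let w : Spec R := p x
  letI : Algebra k ((Spec R).presheaf.stalk w) := StructureSheaf.stalkAlgebra (R := k) w
  haveI : IsLocalization (PrimeSpectrum.asIdeal w).primeCompl ((Spec R).presheaf.stalk w) :=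
    StructureSheaf.IsLocalization.to_stalk (R := k) w
  have h1 : (algebraMap k ((Spec R).presheaf.stalk w)).EssFiniteType :=
    RingHom.essFiniteType_algebraMap.2 (Algebra.EssFiniteType.of_isLocalization _ (PrimeSpectrum.asIdeal w).primeCompl)
  have h2 := h1.comp (LocallyOfFiniteType.stalkMap p x)
  have e : (p.stalkMap x).hom.comp (algebraMap k ((Spec R).presheaf.stalk w)) =
      algebraMap k (X.presheaf.stalk x) := by
    refine RingHom.ext fun r => ?_
    show (p.stalkMap x).hom ((Spec R).presheaf.germ ⊤ w trivial ((Scheme.ΓSpecIso R).inv r)) =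
      X.presheaf.germ ⊤ x trivial (Coh.toGlobal p r)
    exact Scheme.Hom.germ_stalkMap_apply p ⊤ x trivial _
  exact RingHom.essFiniteType_algebraMap.1 (e ▸ h2)

end GrothLib.DeltaBC4
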