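import Groth.Agent.Lib.LenTensor.Basic
import Groth.Prelude.Def_Curv2
import Mathlib

/-! The delta invariant does not decrease along a flat local homomorphism. -/

set_option autoImplicit false
set_option linter.style.haveILetI false
universe u

open TensorProduct IsLocalRing

namespace GrothLib.DeltaBC4

/-- A flat local homomorphism does not decrease the delta invariant. -/
theorem deltaInv_le_of_flat (A B : Type u) [CommRing A] [IsLocalRing A] [CommRing B] [IsLocalRing B]
    [Algebra A B] [IsLocalHom (algebraMap A B)] [Module.Flat A B] :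
    Curv2.deltaInv A ≤ Curv2.deltaInv B := by
  haveI : Module.FaithfullyFlat A B := Module.FaithfullyFlat.of_flat_of_isLocalHom
  let KA := FractionRing A
  let M := integralClosure A KA
  let Q := B ⊗[A] KA
  let S := Algebra.algebraMapSubmonoid B (nonZeroDivisors A)
  have hS : S ≤ nonZeroDivisors B := by
    rintro _ ⟨a, ha, rfl⟩
    refine mem_nonZeroDivisors_iff_right.2 fun b hb => ?_
    have hinj : Function.Injective (LinearMap.mulLeft A a) := fun x y h =>
      (mem_nonZeroDivisors_iff.1 ha).1 (x - y) (by
        rw [mul_sub, sub_eq_zero]; exact h) |> sub_eq_zero.1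
    have h := Module.Flat.lTensor_preserves_injective_linearMap (M := B) (LinearMap.mulLeft A a) hinj
    have h0 : (LinearMap.mulLeft A a).lTensor B (b ⊗ₜ (1 : A)) = 0 := by
      rw [LinearMap.lTensor_tmul, LinearMap.mulLeft_apply, mul_one, ← (TensorProduct.rid A B).map_eq_zero_iff,
        TensorProduct.rid_tmul, Algebra.smul_def, mul_comm, hb]
    have := congrArg (TensorProduct.rid A B) (h (h0.trans (map_zero _).symm))
    simpa using this
  let j : Q →ₐ[B] FractionRing B := IsLocalization.liftAlgHom (M := S) (f := Algebra.ofId B (FractionRing B))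
    fun y => IsLocalization.map_units (FractionRing B) (⟨y.1, hS y.2⟩ : nonZeroDivisors B)
  have hj : Function.Injective j := by
    rw [injective_iff_map_eq_zero]
    intro z hz
    obtain ⟨b, s, rfl⟩ := IsLocalization.exists_mk'_eq S z
    have h1 : algebraMap B (FractionRing B) b = 0 := by
      rw [← j.commutes b, ← IsLocalization.mk'_spec Q b s, map_mul, hz, zero_mul]
    rw [IsFractionRing.injective B (FractionRing B) (h1.trans (map_zero _).symm)]
    exact IsLocalization.mk'_zero s
  let T := B ⊗[A] M
  let J : T →ₐ[B] FractionRing B := j.comp (Algebra.TensorProduct.map (AlgHom.id B B) M.val)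
  have hJ : Function.Injective J :=
    hj.comp (Module.Flat.lTensor_preserves_injective_linearMap M.val.toLinearMap Subtype.val_injective)
  have hint : ∀ t, J t ∈ integralClosure B (FractionRing B) := fun t => by
    induction t using TensorProduct.induction_on with
    | zero => rw [map_zero]; exact zero_mem _
    | add a b ha hb => rw [map_add]; exact add_mem ha hb
    | tmul b m =>
      have h : IsIntegral B ((1 : B) ⊗ₜ[A] m) :=
        ((Algebra.IsIntegral.isIntegral (R := A) m).map
          (Algebra.TensorProduct.includeRight : M →ₐ[A] T)).tower_top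
      rw [show (b ⊗ₜ[A] m : T) = b • ((1 : B) ⊗ₜ[A] m) by rw [smul_tmul', smul_eq_mul, mul_one]]
      rw [map_smul]
      exact (h.map J).smul b
  let J' : T →ₐ[B] integralClosure B (FractionRing B) := J.codRestrict _ hint
  let l : A →ₗ[A] M := Algebra.linearMap A M
  let f : T →ₗ[B] B ⊗[A] (M ⧸ LinearMap.range l) := (LinearMap.range l).mkQ.baseChange B
  have hf : Function.Surjective f := LinearMap.lTensor_surjective B (Submodule.mkQ_surjective _)
  have hker : LinearMap.ker f ≤ LinearMap.range (Algebra.linearMap B T) := by
    have hex : Function.Exact (l.lTensor B) ((LinearMap.range l).mkQ.lTensor B) :=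
      lTensor_exact B (LinearMap.exact_map_mkQ_range l) (Submodule.mkQ_surjective _)
    intro t ht
    obtain ⟨z, rfl⟩ := (hex t).1 (LinearMap.mem_ker.1 ht)
    refine ⟨TensorProduct.rid A B z, ?_⟩
    clear ht
    induction z with
    | zero => simp
    | tmul b a =>
      simp only [TensorProduct.rid_tmul, LinearMap.lTensor_tmul, Algebra.linearMap_apply, l]
      show (a • b) ⊗ₜ[A] (1 : M) = b ⊗ₜ algebraMap A M a
      rw [TensorProduct.smul_tmul, Algebra.algebraMap_eq_smul_one]
    | add a b ha hb => simp only [map_add, ha, hb]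
  have hker' : LinearMap.ker f = LinearMap.range (Algebra.linearMap B T) := by
    refine le_antisymm hker ?_
    rintro _ ⟨b, rfl⟩
    show f (b ⊗ₜ[A] (1 : M)) = 0
    rw [show f (b ⊗ₜ[A] (1 : M)) = b ⊗ₜ (LinearMap.range l).mkQ 1 from rfl,
      show (LinearMap.range l).mkQ 1 = 0 from (Submodule.Quotient.mk_eq_zero _).2 ⟨1, map_one (algebraMap A M)⟩, tmul_zero]
  let R := LinearMap.range (Algebra.linearMap B (integralClosure B (FractionRing B)))
  have hle : LinearMap.range (Algebra.linearMap B T) ≤ R.comap J'.toLinearMap := by
    rintro _ ⟨b, rfl⟩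
    exact ⟨b, (J'.commutes b).symm⟩
  have hinj : Function.Injective (Submodule.mapQ _ R J'.toLinearMap hle) := by
    rw [← LinearMap.ker_eq_bot, Submodule.ker_mapQ, ← LinearMap.le_ker_iff_map, Submodule.ker_mkQ]
    rintro t ⟨b, hb⟩
    refine ⟨b, hJ ?_⟩
    exact (J.commutes b).trans (congrArg Subtype.val hb)
  calc Curv2.deltaInv A = Module.length A (M ⧸ LinearMap.range l) * 1 := (mul_one _).symm
    _ ≤ Module.length A (M ⧸ LinearMap.range l) * Module.length B
        (B ⧸ ((maximalIdeal A).map (algebraMap A B) • (⊤ : Submodule B B))) := by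
      refine mul_le_mul_right (ENat.one_le_iff_ne_zero.2 fun h => ?_) _
      rw [Module.length_eq_zero_iff] at h
      have htop : ((maximalIdeal A).map (algebraMap A B) • (⊤ : Submodule B B)) = ⊤ :=
        Submodule.Quotient.subsingleton_iff.1 h
      rw [smul_eq_mul, Ideal.mul_top] at htop
      exact (maximalIdeal.isMaximal B).ne_top (top_le_iff.1 (htop ▸
        ((local_hom_TFAE (algebraMap A B)).out 0 2 rfl rfl).1 inferInstance))
    _ = Module.length B (B ⊗[A] (M ⧸ LinearMap.range l)) := (LenTensor.length_tensor (B := B) B _).symm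
    _ = Module.length B (T ⧸ LinearMap.range (Algebra.linearMap B T)) :=
      ((Submodule.quotEquivOfEq _ _ hker'.symm).trans (f.quotKerEquivOfSurjective hf)).length_eq.symm
    _ ≤ Curv2.deltaInv B := Module.length_le_of_injective _ hinj

end GrothLib.DeltaBC4
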